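import Mathlib.RingTheory.Artinian.Module
import Mathlib.Algebra.Module.Torsion.Basic
import Mathlib.RingTheory.Noetherian.Basic

/-! finite modules killed by a power of an ideal with Artinian quotient -/

universe v u

namespace Groth.Agent.EtModWLib

variable {A : Type u} [CommRing A]

theorem isArtinian_quotient_smul (I : Ideal A) [IsArtinianRing (A ⧸ I)] (M : Type v) [AddCommGroup M] [Module A M]
    [Module.Finite A M] : IsArtinian A (M ⧸ (I • ⊤ : Submodule A M)) := by
  let M' := M ⧸ (I • ⊤ : Submodule A M)
  have hs : ∀ (q : A ⧸ I) (r : A) (x : M'), Ideal.Quotient.mk I r = q → q • x = r • x := fun q r x h => h ▸ rfl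
  have : Module.Finite (A ⧸ I) M' := Module.Finite.of_restrictScalars_finite A (A ⧸ I) M'
  have hw : IsArtinian (A ⧸ I) M' := inferInstance
  let f : Submodule A M' → Submodule (A ⧸ I) M' := fun N =>
    { carrier := N
      add_mem' := N.add_mem
      zero_mem' := N.zero_mem
      smul_mem' := fun q x hx => by
        obtain ⟨r, hr⟩ := Ideal.Quotient.mk_surjective q
        rw [hs q r x hr]
        exact N.smul_mem r hx }
  exact ⟨(show StrictMono f from fun N N' h => h).wellFoundedLT.wf⟩

theorem isArtinian_of_pow_smul_eq_bot [IsNoetherianRing A] (I : Ideal A) [IsArtinianRing (A ⧸ I)] :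
    ∀ (k : ℕ) (M : Type v) [AddCommGroup M] [Module A M] [Module.Finite A M],
      (I ^ k) • (⊤ : Submodule A M) = ⊥ → IsArtinian A M := by
  intro k
  induction k with
  | zero =>
    intro M _ _ _ h
    rw [pow_zero, Ideal.one_eq_top, Submodule.top_smul] at h
    have : Subsingleton M := Submodule.subsingleton_iff A |>.1 (subsingleton_of_top_le_bot h.le) 
    infer_instance
  | succ k ih =>
    intro M _ _ _ h
    let N : Submodule A M := I • ⊤
    have : Module.Finite A N := Module.Finite.iff_fg.2 (IsNoetherian.noetherian N)
    have h1 : IsArtinian A N := ih N (Submodule.map_injective_of_injective N.injective_subtype (by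
      rw [Submodule.map_smul'', Submodule.map_top, Submodule.range_subtype, Submodule.map_bot, ← Submodule.mul_smul,
        ← pow_succ, h]))
    exact (isArtinian_iff_submodule_quotient N).2 ⟨h1, isArtinian_quotient_smul I M⟩

end Groth.Agent.EtModWLib
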