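import Groth.Agent.EtModWLib.ML.Artin
import Groth.Agent.EtModWLib.Noeth.Jointly
import Groth.Agent.EtModWLib.EpsMod

/-! the Mittag-Leffler condition for systems of locally constant sheaves with Artinian coefficients -/

universe u

open CategoryTheory CategoryTheory.Limits AlgebraicGeometry Opposite TopologicalSpace

namespace Groth.Agent.EtModWLib

set_option backward.isDefEq.respectTransparency.types false

variable {Λ : Type (u + 1)} [CommRing Λ] [IsNoetherianRing Λ] {X : Scheme.{u}} {I : Ideal Λ}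

/-- the images in one degree of a locally constant system with Artinian coefficients are stationary -/
theorem exists_image_stationary [IsArtinianRing (Λ ⧸ I)] [IsLocallyNoetherian X] [CompactSpace X]
    {F : ARSys.PS (EtModW.Mod Λ X)} (hk : ARSys.TermKilled I F)
    (hF : ∀ n : ℕ, EtModW.IsFTLocConst Λ (F.obj (op n))) (n : ℕ) :
    ∃ r, ∀ s, r ≤ s → ARSys.shiftMap F r n ≫ cokernel.π (ARSys.shiftMap F s n) = 0 := by
  have : IsNoetherian X := {}
  have hQ : ∀ s, EtModW.IsFTLocConst Λ (cokernel (ARSys.shiftMap F s n)) := fun s =>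
    FTConst.isFTLocConst_of_cokernel (S := ShortComplex.mk _ _ (cokernel.condition (ARSys.shiftMap F s n)))
      ((ShortComplex.mk _ _ (cokernel.condition (ARSys.shiftMap F s n))).exact_of_g_is_cokernel (cokernelIsCokernel _))
      (hF (n + s)) (hF n)
  -- stabilisation at one geometric point
  have hpt : ∀ (x : X), ∃ (k : Type u) (_ : Field k) (_ : IsAlgClosed k) (ξ : Spec (CommRingCat.of k) ⟶ X) (r : ℕ),
      ξ.base (default : Spec (CommRingCat.of k)) = x ∧ ∀ s, r ≤ s →
        (EtModW.stalk Λ ξ).map (ARSys.shiftMap F r n ≫ cokernel.π (ARSys.shiftMap F s n)) = 0 := fun x => by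
    obtain ⟨k, _, _, ξ, hξ⟩ := EtFound.exists_geomPoint x
    obtain ⟨U, p, hp, ⟨c⟩⟩ := FTConst.exists_chart (hF n) x
    obtain ⟨z, -⟩ := Scheme.pointSmallEtaleFiberObjToPreimage_surjective ξ hξ U ⟨p, hp⟩
    have : Module.Finite Λ ((EtModW.stalk Λ ξ).obj (F.obj (op n))) := Module.Finite.equiv
      (LinearEquiv.ofBijective (c.φ ≫ (Scheme.pointSmallEtale ξ).toPresheafFiber U z _).hom (c.const k ξ z))
    have : IsArtinian Λ ((EtModW.stalk Λ ξ).obj (F.obj (op n))) := by
      refine isArtinian_of_pow_smul_eq_bot I (n + 1) _ (le_bot_iff.1 (Submodule.smul_le.2 fun a ha m _ => ?_))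
      exact ConcreteCategory.congr_hom (killedBy_map (EtModW.stalk Λ ξ) (hk n) a ha) m
    have hanti : ∀ i j, i ≤ j → LinearMap.range ((EtModW.stalk Λ ξ).map (ARSys.shiftMap F j n)).hom ≤
        LinearMap.range ((EtModW.stalk Λ ξ).map (ARSys.shiftMap F i n)).hom := fun i j h => by
      rintro _ ⟨y, rfl⟩
      refine ⟨(EtModW.stalk Λ ξ).map (ARSys.tr F (show n + i ≤ n + j by omega)) y, ?_⟩
      show (EtModW.stalk Λ ξ).map (ARSys.tr F (Nat.le_add_right n i))
          ((EtModW.stalk Λ ξ).map (ARSys.tr F (show n + i ≤ n + j by omega)) y) =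
        (EtModW.stalk Λ ξ).map (ARSys.tr F (Nat.le_add_right n j)) y
      rw [← ConcreteCategory.comp_apply, ← Functor.map_comp, ARLib.tr_tr]
    obtain ⟨r, hr⟩ := IsArtinian.monotone_stabilizes ⟨fun s => OrderDual.toDual
      (LinearMap.range ((EtModW.stalk Λ ξ).map (ARSys.shiftMap F s n)).hom), fun i j h => hanti i j h⟩
    refine ⟨k, inferInstance, inferInstance, ξ, r, hξ, fun s hs => ModuleCat.hom_ext (LinearMap.ext fun y => ?_)⟩
    obtain ⟨w, hw⟩ : (EtModW.stalk Λ ξ).map (ARSys.shiftMap F r n) y ∈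
        LinearMap.range ((EtModW.stalk Λ ξ).map (ARSys.shiftMap F s n)).hom :=
      (congrArg OrderDual.ofDual (hr s hs)).le ⟨y, rfl⟩
    rw [Functor.map_comp, ModuleCat.hom_comp, LinearMap.comp_apply, ← hw, ← LinearMap.comp_apply,
      ← ModuleCat.hom_comp, ← Functor.map_comp, cokernel.condition, Functor.map_zero]
    rfl
  classical
  choose k hk₁ hk₂ ξ r hξ hr using hpt
  obtain ⟨S, hSf, hSc, hSi, hSU⟩ := NoetherianSpace.exists_finite_set_isClosed_irreducible (isClosed_univ (X := X))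
  let gens : Finset X := hSf.toFinset.attach.image fun t => (hSi t.1 (hSf.mem_toFinset.1 t.2)).genericPoint
  refine ⟨gens.sup r, fun s hs => EtFound.eq_of_stalks _ _ fun L _ _ ζ => ?_⟩
  -- reduce to an algebraically closed point
  obtain ⟨k', _, _, ζ', hζ'⟩ := EtFound.exists_geomPoint (ζ.base (default : Spec (CommRingCat.of L)))
  obtain ⟨α⟩ := nonempty_stalkFunctor_iso (Λ := Λ) ζ' ζ hζ'
  suffices h : (EtModW.stalk Λ ζ').map (ARSys.shiftMap F (gens.sup r) n ≫ cokernel.π (ARSys.shiftMap F s n)) = 0 by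
    refine (NatIso.naturality_1 α _).symm.trans (Eq.trans ?_ (NatIso.naturality_1 α (0 : _ ⟶ _)))
    exact congrArg (fun q => α.inv.app _ ≫ q ≫ α.hom.app _) (h.trans (Functor.map_zero _ _ _).symm)
  obtain ⟨t, htS, hxt⟩ := Set.mem_sUnion.1 (hSU.le (Set.mem_univ (ζ'.base (default : Spec (CommRingCat.of k')))))
  have hg : IsGenericPoint (hSi t htS).genericPoint t := by
    simpa [(hSc t htS).closure_eq] using (hSi t htS).isGenericPoint_genericPoint_closure
  let η := (hSi t htS).genericPoint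
  have hle : r η ≤ gens.sup r := Finset.le_sup (Finset.mem_image.2 ⟨⟨t, hSf.mem_toFinset.2 htS⟩,
    Finset.mem_attach _ _, rfl⟩)
  let _ := hk₁ η
  have := hk₂ η
  obtain ⟨φ, -⟩ := EtFound.exists_pointHom ζ' (ξ η) (U := Scheme.Etale.mk (𝟙 X))
    (CategoryTheory.Over.homMk ζ' (Category.comp_id _)) (CategoryTheory.Over.homMk (ξ η) (Category.comp_id _))
    ((specializes_of_eq (hξ η)).trans (hg.specializes hxt))
  let τ := GrothendieckTopology.Point.Hom.sheafFiber (A := ModuleCat.{u + 1} Λ) φ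
  let f := ARSys.shiftMap F (gens.sup r) n ≫ cokernel.π (ARSys.shiftMap F s n)
  have h0 : (EtModW.stalk Λ (ξ η)).map f = 0 := by
    have e : ARSys.tr F (Nat.le_add_right n (gens.sup r)) = ARSys.tr F (show n + r η ≤ n + gens.sup r by omega) ≫
        ARSys.tr F (Nat.le_add_right n (r η)) := (ARLib.tr_tr F _ _).symm
    show (EtModW.stalk Λ (ξ η)).map (ARSys.tr F (Nat.le_add_right n (gens.sup r)) ≫ cokernel.π (ARSys.shiftMap F s n)) = 0
    refine (congrArg (fun q => (EtModW.stalk Λ (ξ η)).map (q ≫ cokernel.π (ARSys.shiftMap F s n))) e).trans ?_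
    refine (congrArg (EtModW.stalk Λ (ξ η)).map (Category.assoc _ _ _)).trans ?_
    refine ((EtModW.stalk Λ (ξ η)).map_comp _ _).trans ?_
    exact (congrArg (_ ≫ ·) (hr η s (hle.trans hs))).trans comp_zero
  have : Mono (τ.app (cokernel (ARSys.shiftMap F s n))) :=
    (ModuleCat.mono_iff_injective _).2 (bijective_cospec (hQ s) φ).1
  refine (cancel_mono (τ.app (cokernel (ARSys.shiftMap F s n)))).1 ((τ.naturality f).trans ?_)
  exact (congrArg (τ.app _ ≫ ·) h0).trans (comp_zero.trans zero_comp.symm)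

/-- such systems are Mittag-Leffler on the pro-etale site -/
theorem isML_eps [IsArtinianRing (Λ ⧸ I)] [IsLocallyNoetherian X] [CompactSpace X] [ProEtS.EpsCont X]
    {F : ARSys.PS (EtModW.Mod Λ X)} (hk : ARSys.TermKilled I F)
    (hF : ∀ n : ℕ, EtModW.IsFTLocConst Λ (F.obj (op n))) : ARSys.IsML (F ⋙ EtModW.epsPullMod Λ X) := by
  intro n
  obtain ⟨r, hr⟩ := exists_image_stationary hk hF n
  refine ⟨r, fun s hs => le_antisymm ?_ ?_⟩
  · refine (ARLib.imageSubobject_le_iff _ _).2 ⟨_, 𝟙 _, inferInstance,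
      ARSys.tr (F ⋙ EtModW.epsPullMod Λ X) (show n + r ≤ n + s by omega), ?_⟩
    exact (Category.id_comp _).trans (ARLib.tr_tr _ _ _).symm
  · refine (ARLib.imageSubobject_le_iff _ _).2 ?_
    let E := EtModW.epsPullMod Λ X
    have h2 : ARSys.shiftMap (F ⋙ E) r n ≫ cokernel.π (ARSys.shiftMap (F ⋙ E) s n) = 0 := by
      obtain ⟨ψ, hψ⟩ : ∃ ψ, E.map (cokernel.π (ARSys.shiftMap F s n)) ≫ ψ = cokernel.π (ARSys.shiftMap (F ⋙ E) s n) := by
        obtain ⟨χ, hχ⟩ := CokernelCofork.IsColimit.desc'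
          (isColimitOfHasCokernelOfPreservesColimit E (ARSys.shiftMap F s n))
          (cokernel.π (ARSys.shiftMap (F ⋙ E) s n)) (cokernel.condition _)
        exact ⟨χ, hχ⟩
      rw [← hψ, ← Category.assoc]
      refine (congrArg (· ≫ ψ) ?_).trans zero_comp
      exact (E.map_comp _ _).symm.trans ((congrArg E.map (hr s hs)).trans (E.map_zero _ _))
    have := (ShortComplex.mk (ARSys.shiftMap (F ⋙ E) s n) _ (cokernel.condition _)).exact_of_g_is_cokernel
      (cokernelIsCokernel (ARSys.shiftMap (F ⋙ E) s n))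
    exact this.exact_up_to_refinements (ARSys.shiftMap (F ⋙ E) r n) h2

end Groth.Agent.EtModWLib
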